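import Cfsg.Agent.H2.Pol.Count

/-!
# Polar spaces: the matrix identities (helper2)

* `exists_cst` : `F E - E F = c - A'`;
* `adj_inc` : `q (A' E) = E A' + q n E`;
* `UD` : the matrix `E F` on `X k` (zero for `k = 0`).
-/

set_option autoImplicit false

namespace Cfsg.Agent.H2.Pol

open Module Pol

theorem sum_ind {α : Type*} [Fintype α] (p r : α → Prop) [DecidablePred p] [DecidablePred r] (R : Type*) [Semiring R] :
    ∑ x, (if p x then (1 : R) else 0) * (if r x then 1 else 0) = (Nat.card {x // p x ∧ r x} : R) := by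
  classical
  rw [Nat.card_eq_fintype_card, Fintype.card_subtype]
  rw [Finset.sum_congr rfl fun x _ => by
    rw [ite_mul, one_mul, zero_mul, ← ite_and], Finset.sum_boole]

theorem cast_ite {R : Type*} [Semiring R] (a b : Prop) [Decidable a] [Decidable b] (n : ℕ) :
    ((if a then n else if b then 1 else 0 : ℕ) : R) = if a then (n : R) else if b then 1 else 0 := by
  split_ifs <;> simp

section mat

variable {F V : Type*} [Field F] [AddCommGroup V] [Module F V] {Φ : Pol F V}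
variable {R : Type*} [CommRing R]

open scoped Classical in
theorem inc_apply (k : ℕ) (W : Φ.X (k + 1)) (U : Φ.X k) : Φ.inc R k W U = if U.1 ≤ W.1 then 1 else 0 := rfl

open scoped Classical in
theorem adj_apply (k : ℕ) (U U' : Φ.X k) :
    Φ.adj R k U U' = if finrank F ↥(U.1 ⊓ U'.1) + 1 = k ∧ ¬ Φ.Orth U.1 U'.1 then 1 else 0 := rfl

theorem adj_symm (k : ℕ) : (Φ.adj R k).transpose = Φ.adj R k := by
  classical
  ext U U'
  rw [Matrix.transpose_apply, adj_apply, adj_apply]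
  refine if_congr ?_ rfl rfl
  rw [inf_comm, Φ.orth_comm]

variable [Finite F] [FiniteDimensional F V]

/-- the matrix `E F` -/
noncomputable def UD (Φ : Pol F V) (R : Type*) [CommRing R] : ∀ k : ℕ, Matrix (Φ.X k) (Φ.X k) R
  | 0 => 0
  | k + 1 => Φ.inc R k * (Φ.inc R k).transpose

theorem exists_cst {cc : ℕ → ℕ} (hcc : Φ.Reg cc) (R : Type*) [CommRing R] (k : ℕ) : ∃ c : ℤ,
    (Φ.inc R k).transpose * Φ.inc R k = UD Φ R k + (c : R) • (1 : Matrix (Φ.X k) (Φ.X k) R) - Φ.adj R k := by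
  classical
  cases k with
  | zero =>
    refine ⟨cc 0, ?_⟩
    ext U U'
    have hU : U = U' := by
      apply Subtype.ext
      have h1 : U.1 = ⊥ := Submodule.finrank_eq_zero.1 U.2.2
      have h2 : U'.1 = ⊥ := Submodule.finrank_eq_zero.1 U'.2.2
      rw [h1, h2]
    have h3 : ((Φ.inc R 0).transpose * Φ.inc R 0) U U' = (cc 0 : R) := by
      refine (sum_ind (fun W : Φ.X 1 => U.1 ≤ W.1) (fun W => U'.1 ≤ W.1) R).trans ?_
      rw [card_up hcc, if_pos hU]
    have h4 : (UD Φ R 0 + (((cc 0 : ℕ) : ℤ) : R) • (1 : Matrix (Φ.X 0) (Φ.X 0) R) - Φ.adj R 0) U U' =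
        0 + (((cc 0 : ℕ) : ℤ) : R) * (1 : Matrix (Φ.X 0) (Φ.X 0) R) U U' - Φ.adj R 0 U U' := rfl
    rw [h3, h4, Matrix.one_apply, if_pos hU, adj_apply, if_neg (fun h => by omega)]
    push_cast
    ring
  | succ k =>
    obtain ⟨hh, hhh⟩ := exists_hh Φ k
    refine ⟨(cc (k + 1) : ℤ) - hh, ?_⟩
    ext U U'
    have h3 : ((Φ.inc R (k + 1)).transpose * Φ.inc R (k + 1)) U U' = if U = U' then (cc (k + 1) : R) else
        if finrank F ↥(U.1 ⊓ U'.1) + 1 = k + 1 ∧ Φ.Orth U.1 U'.1 then 1 else 0 := by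
      refine (sum_ind (fun W : Φ.X (k + 1 + 1) => U.1 ≤ W.1) (fun W => U'.1 ≤ W.1) R).trans ?_
      rw [card_up hcc, cast_ite]
    have h4 : (Φ.inc R k * (Φ.inc R k).transpose) U U' = if U = U' then (hh : R) else
        if finrank F ↥(U.1 ⊓ U'.1) = k then 1 else 0 := by
      refine (sum_ind (fun W : Φ.X k => W.1 ≤ U.1) (fun W => W.1 ≤ U'.1) R).trans ?_
      rw [card_down hhh, cast_ite]
    have h5 : (UD Φ R (k + 1) + (((cc (k + 1) : ℤ) - hh : ℤ) : R) • (1 : Matrix (Φ.X (k + 1)) (Φ.X (k + 1)) R) -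
        Φ.adj R (k + 1)) U U' = (Φ.inc R k * (Φ.inc R k).transpose) U U' + (((cc (k + 1) : ℤ) - hh : ℤ) : R) *
        (1 : Matrix (Φ.X (k + 1)) (Φ.X (k + 1)) R) U U' - Φ.adj R (k + 1) U U' := rfl
    rw [h3, h5, h4, Matrix.one_apply, adj_apply]
    by_cases h : U = U'
    · have h6 : ¬ (finrank F ↥(U.1 ⊓ U'.1) + 1 = k + 1 ∧ ¬ Φ.Orth U.1 U'.1) := by
        intro h7
        rw [h] at h7
        exact h7.2 (X_orth U')
      rw [if_pos h, if_pos h, if_pos h, if_neg h6]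
      push_cast
      ring
    · rw [if_neg h, if_neg h, if_neg h]
      by_cases h6 : finrank F ↥(U.1 ⊓ U'.1) = k
      · by_cases h7 : Φ.Orth U.1 U'.1
        · rw [if_pos ⟨by omega, h7⟩, if_pos h6, if_neg (fun h8 => h8.2 h7)]
          ring
        · rw [if_neg (fun h8 => h7 h8.2), if_pos h6, if_pos ⟨by omega, h7⟩]
          ring
      · rw [if_neg (fun h8 => h6 (by omega)), if_neg h6, if_neg (fun h8 => h6 (by omega))]
        ring

theorem adj_inc {cc : ℕ → ℕ} (hcc : Φ.Reg cc) (R : Type*) [CommRing R] (k : ℕ) :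
    (Nat.card F : R) • (Φ.adj R (k + 1) * Φ.inc R k) = Φ.inc R k * Φ.adj R k +
      ((Nat.card F : R) * ((cc k : R) - 1 - (Nat.card F : R) * cc (k + 1))) • Φ.inc R k := by
  classical
  ext W' U
  have h3 : (Φ.adj R (k + 1) * Φ.inc R k) W' U =
      (Nat.card {W : Φ.X (k + 1) // (finrank F ↥(W'.1 ⊓ W.1) + 1 = k + 1 ∧ ¬ Φ.Orth W'.1 W.1) ∧ U.1 ≤ W.1} : R) :=
    sum_ind (fun W : Φ.X (k + 1) => finrank F ↥(W'.1 ⊓ W.1) + 1 = k + 1 ∧ ¬ Φ.Orth W'.1 W.1) (fun W => U.1 ≤ W.1) R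
  have h4 : (Φ.inc R k * Φ.adj R k) W' U =
      (Nat.card {U' : Φ.X k // U'.1 ≤ W'.1 ∧ (finrank F ↥(U'.1 ⊓ U.1) + 1 = k ∧ ¬ Φ.Orth U'.1 U.1)} : R) :=
    sum_ind (fun U' : Φ.X k => U'.1 ≤ W'.1) (fun U' => finrank F ↥(U'.1 ⊓ U.1) + 1 = k ∧ ¬ Φ.Orth U'.1 U.1) R
  rw [Matrix.smul_apply, Matrix.add_apply, Matrix.smul_apply, h3, h4, smul_eq_mul, smul_eq_mul, card_F4, inc_apply]
  by_cases hUW : U.1 ≤ W'.1
  · have h5 := card_F3' hcc hUW
    have h6 : ¬ (finrank F ↥(U.1 ⊓ W'.1) + 1 = k ∧ ¬ Φ.Orth U.1 W'.1) := fun h => h.2 ((X_orth W').mono hUW le_rfl)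
    rw [if_neg h6, if_pos hUW, ← h5]
    push_cast
    ring
  · rw [card_F3 hUW, if_neg hUW]
    by_cases h6 : finrank F ↥(U.1 ⊓ W'.1) + 1 = k ∧ ¬ Φ.Orth U.1 W'.1
    · rw [if_pos h6, if_pos h6]
      push_cast
      ring
    · rw [if_neg h6, if_neg h6]
      push_cast
      ring

/-- the transposed identity -/
theorem inc_adj {cc : ℕ → ℕ} (hcc : Φ.Reg cc) (R : Type*) [CommRing R] (k : ℕ) :
    (Nat.card F : R) • ((Φ.inc R k).transpose * Φ.adj R (k + 1)) = Φ.adj R k * (Φ.inc R k).transpose +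
      ((Nat.card F : R) * ((cc k : R) - 1 - (Nat.card F : R) * cc (k + 1))) • (Φ.inc R k).transpose := by
  have h := congrArg Matrix.transpose (adj_inc hcc R k)
  rwa [Matrix.transpose_smul, Matrix.transpose_mul, Matrix.transpose_add, Matrix.transpose_mul, Matrix.transpose_smul,
    adj_symm, adj_symm] at h

end mat

end Cfsg.Agent.H2.Pol
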