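import Mathlib

/-!
# Polar spaces: totally singular subspaces and their incidence matrices (helper2, S4891 POLAR THEOREM)

* `Pol F V` : a reflexive form `B (x, y) = L y x`, linear in `x`, with a set of singular vectors; covers symplectic,
  unitary and orthogonal spaces;
* `Pol.TI`, `Pol.X Φ k` : totally singular subspaces (of dimension `k`), `Pol.Orth`, `Pol.perp`;
* `inc Φ R k` : the incidence matrix of `X (k+1)` and `X k`; `adj Φ R k` : the adjacency matrix
  "`dim (U ∩ U') = k - 1` and `U' ⊥̸ U`" on `X k`;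
* `Reg Φ cc` : every `U` in `X k` lies in exactly `cc k` elements of `X (k+1)` (a consequence of transitivity);
* `Prim Φ K k` : the functions on `X k` killed by `(inc (k-1))ᵀ`.
-/

set_option autoImplicit false

namespace Cfsg.Agent.H2.Pol

open Module

/-- a polar structure on `V`: `L y x = B (x, y)`, linear in `x` -/
structure Pol (F V : Type*) [Field F] [AddCommGroup V] [Module F V] where
  /-- `L y x = B (x, y)` -/
  L : V → (V →ₗ[F] F)
  refl : ∀ x y, L y x = 0 → L x y = 0
  /-- singular vectors -/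
  sing : V → Prop
  sing_zero : sing 0
  sing_add : ∀ x y, sing x → sing y → L y x = 0 → sing (x + y)
  sing_smul : ∀ (a : F) (x : V), sing x → sing (a • x) := by
    intro a x h
    first
      | trivial
      | (simp_all [QuadraticMap.map_smul])

namespace Pol

variable {F V : Type*} [Field F] [AddCommGroup V] [Module F V] (Φ : Pol F V)

/-- totally singular subspaces -/
def TI (U : Submodule F V) : Prop := (∀ x ∈ U, Φ.sing x) ∧ ∀ x ∈ U, ∀ y ∈ U, Φ.L y x = 0

/-- orthogonal subspaces -/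
def Orth (U W : Submodule F V) : Prop := ∀ x ∈ U, ∀ y ∈ W, Φ.L y x = 0

/-- the orthogonal space -/
def perp (U : Submodule F V) : Submodule F V where
  carrier := {y | ∀ x ∈ U, Φ.L x y = 0}
  add_mem' := by
    intro a b ha hb x hx
    rw [map_add, ha x hx, hb x hx, add_zero]
  zero_mem' := fun x _ => map_zero _
  smul_mem' := by
    intro c a ha x hx
    rw [map_smul, ha x hx, smul_zero]

theorem mem_perp {U : Submodule F V} {y : V} : y ∈ Φ.perp U ↔ ∀ x ∈ U, Φ.L x y = 0 := Iff.rfl

theorem orth_iff_le_perp {U W : Submodule F V} : Φ.Orth U W ↔ U ≤ Φ.perp W :=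
  ⟨fun h x hx y hy => h x hx y hy, fun h x hx y hy => h hx y hy⟩

theorem Orth.symm {Φ : Pol F V} {U W : Submodule F V} (h : Φ.Orth U W) : Φ.Orth W U :=
  fun x hx y hy => Φ.refl _ _ (h y hy x hx)

theorem orth_comm {U W : Submodule F V} : Φ.Orth U W ↔ Φ.Orth W U := ⟨Orth.symm, Orth.symm⟩

theorem Orth.mono {Φ : Pol F V} {U U' W W' : Submodule F V} (h : Φ.Orth U W) (h1 : U' ≤ U) (h2 : W' ≤ W) :
    Φ.Orth U' W' := fun x hx y hy => h x (h1 hx) y (h2 hy)

theorem TI.orth {Φ : Pol F V} {U : Submodule F V} (h : Φ.TI U) : Φ.Orth U U := h.2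

theorem TI.mono {Φ : Pol F V} {U W : Submodule F V} (h : Φ.TI W) (h1 : U ≤ W) : Φ.TI U :=
  ⟨fun x hx => h.1 x (h1 hx), fun x hx y hy => h.2 x (h1 hx) y (h1 hy)⟩

theorem Orth.sup_left {Φ : Pol F V} {U U' W : Submodule F V} (h : Φ.Orth U W) (h' : Φ.Orth U' W) :
    Φ.Orth (U ⊔ U') W := by
  rw [orth_iff_le_perp] at *
  exact sup_le h h'

theorem Orth.sup_right {Φ : Pol F V} {U W W' : Submodule F V} (h : Φ.Orth U W) (h' : Φ.Orth U W') :
    Φ.Orth U (W ⊔ W') := (h.symm.sup_left h'.symm).symm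

theorem TI.sup {Φ : Pol F V} {U W : Submodule F V} (hU : Φ.TI U) (hW : Φ.TI W) (h : Φ.Orth U W) : Φ.TI (U ⊔ W) := by
  refine ⟨?_, ?_⟩
  · intro z hz
    obtain ⟨x, hx, y, hy, rfl⟩ := Submodule.mem_sup.1 hz
    exact Φ.sing_add x y (hU.1 x hx) (hW.1 y hy) (h x hx y hy)
  · exact (hU.orth.sup_left h.symm).sup_right (h.sup_left hW.orth)

theorem TI.sup_iff {Φ : Pol F V} {U W : Submodule F V} (hU : Φ.TI U) (hW : Φ.TI W) : Φ.TI (U ⊔ W) ↔ Φ.Orth U W :=
  ⟨fun h => h.orth.mono le_sup_left le_sup_right, fun h => hU.sup hW h⟩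

theorem TI_bot : Φ.TI (⊥ : Submodule F V) := by
  refine ⟨fun x hx => ?_, fun x hx y _ => ?_⟩
  · rw [Submodule.mem_bot] at hx
    rw [hx]
    exact Φ.sing_zero
  · rw [Submodule.mem_bot] at hx
    rw [hx, map_zero]

/-- totally singular subspaces of dimension `k` -/
def X (k : ℕ) : Type _ := {U : Submodule F V // Φ.TI U ∧ finrank F U = k}

instance finiteX [Finite F] [FiniteDimensional F V] (k : ℕ) : Finite (Φ.X k) := by
  have : Finite V := Module.finite_of_finite F
  have : Finite (Submodule F V) := Finite.of_injective (fun U : Submodule F V => (U : Set V)) SetLike.coe_injective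
  exact Subtype.finite

noncomputable instance fintypeX [Finite F] [FiniteDimensional F V] (k : ℕ) : Fintype (Φ.X k) := Fintype.ofFinite _

noncomputable instance decEqX (k : ℕ) : DecidableEq (Φ.X k) := Classical.decEq _

open scoped Classical in
/-- the incidence matrix -/
noncomputable def inc (R : Type*) [Zero R] [One R] (k : ℕ) : Matrix (Φ.X (k + 1)) (Φ.X k) R :=
  fun W U => if U.1 ≤ W.1 then 1 else 0

open scoped Classical in
/-- the adjacency matrix `A'` -/
noncomputable def adj (R : Type*) [Zero R] [One R] (k : ℕ) : Matrix (Φ.X k) (Φ.X k) R :=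
  fun U U' => if finrank F ↥(U.1 ⊓ U'.1) + 1 = k ∧ ¬ Φ.Orth U.1 U'.1 then 1 else 0

/-- regularity: every `U` in `X k` lies in exactly `cc k` elements of `X (k+1)` -/
def Reg (cc : ℕ → ℕ) : Prop := ∀ (k : ℕ) (U : Φ.X k), Nat.card {W : Φ.X (k + 1) // U.1 ≤ W.1} = cc k

/-- the primitive functions on `X k` -/
noncomputable def Prim (K : Type*) [Field K] [Finite F] [FiniteDimensional F V] : ∀ k : ℕ, Submodule K (Φ.X k → K)
  | 0 => ⊤
  | j + 1 => LinearMap.ker (Φ.inc K j).transpose.mulVecLin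

end Pol

end Cfsg.Agent.H2.Pol
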