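import Cfsg.Agent.H2.Pol.Lat

/-!
# Polar spaces: the counts behind the two matrix identities (helper2)
-/

set_option autoImplicit false

namespace Cfsg.Agent.H2.Pol

open Module Pol

theorem card_eq_one {α : Type*} {P : α → Prop} (x : α) (hx : P x) (h : ∀ y, P y → y = x) : Nat.card {y // P y} = 1 := by
  have : Unique {y // P y} := { default := ⟨x, hx⟩, uniq := fun y => Subtype.ext (h y.1 y.2) }
  exact Nat.card_unique

theorem card_eq_zero {α : Type*} {P : α → Prop} (h : ∀ y, ¬ P y) : Nat.card {y // P y} = 0 := by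
  have : IsEmpty {y // P y} := ⟨fun y => h y.1 y.2⟩
  exact Nat.card_of_isEmpty

theorem card_ne {α : Type*} {P : α → Prop} [Finite {y // P y}] (x : α) (hx : P x) :
    Nat.card {y // P y ∧ y ≠ x} + 1 = Nat.card {y // P y} := by
  classical
  have e : Option {y // P y ∧ y ≠ x} ≃ {y // P y} :=
    { toFun := fun o => o.elim ⟨x, hx⟩ fun y => ⟨y.1, y.2.1⟩
      invFun := fun y => if h : y.1 = x then none else some ⟨y.1, y.2, h⟩
      left_inv := by
        intro o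
        rcases o with _ | ⟨y, hy⟩
        · simp
        · simp [hy.2]
      right_inv := by
        intro y
        by_cases h : y.1 = x
        · simp only [h, dif_pos]
          exact Subtype.ext h.symm
        · simp [h] }
  have : Finite {y // P y ∧ y ≠ x} := Finite.of_injective (fun y => (⟨y.1, y.2.1⟩ : {y // P y}))
    fun a b h => Subtype.ext (congrArg (fun z : {y // P y} => z.1) h)
  rw [← Nat.card_congr e, Finite.card_option]

section count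

variable {F V : Type*} [Field F] [AddCommGroup V] [Module F V] [FiniteDimensional F V] {Φ : Pol F V} {k : ℕ}

theorem X_orth (U : Φ.X k) : Φ.Orth U.1 U.1 := U.2.1.orth

theorem X.eq_of_le {U U' : Φ.X k} (h : U.1 ≤ U'.1) : U = U' :=
  Subtype.ext (eq_of_le_finrank h (by rw [U.2.2, U'.2.2]))

/-- `U ⊔ U'` -/
theorem finrank_sup_lt {U U' : Φ.X k} (h : U ≠ U') : k < finrank F ↥(U.1 ⊔ U'.1) := by
  by_contra hcon
  have h1 : U.1 = U.1 ⊔ U'.1 := eq_of_le_finrank le_sup_left (by rw [U.2.2]; omega)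
  exact h (X.eq_of_le (by rw [h1]; exact le_sup_right)).symm

theorem finrank_inf_lt {U U' : Φ.X k} (h : U ≠ U') : finrank F ↥(U.1 ⊓ U'.1) < k := by
  by_contra hcon
  have h1 : U.1 ⊓ U'.1 = U.1 := eq_of_le_finrank inf_le_left (by rw [U.2.2]; omega)
  exact h (X.eq_of_le (by rw [← h1]; exact inf_le_right))

open Classical in
/-- F1 -/
theorem card_up {cc : ℕ → ℕ} (hcc : Φ.Reg cc) (U U' : Φ.X k) :
    Nat.card {W : Φ.X (k + 1) // U.1 ≤ W.1 ∧ U'.1 ≤ W.1} =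
      if U = U' then cc k else if finrank F ↥(U.1 ⊓ U'.1) + 1 = k ∧ Φ.Orth U.1 U'.1 then 1 else 0 := by
  split_ifs with h h1
  · subst h
    rw [← hcc k U]
    refine Nat.card_congr (Equiv.subtypeEquivRight fun W => and_self_iff)
  · have h2 := finrank_sup_inf U.1 U'.1
    rw [U.2.2, U'.2.2] at h2
    refine card_eq_one ⟨U.1 ⊔ U'.1, U.2.1.sup U'.2.1 h1.2, by omega⟩ ⟨le_sup_left, le_sup_right⟩ ?_
    rintro W ⟨hW1, hW2⟩
    refine (X.eq_of_le ?_).symm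
    exact sup_le hW1 hW2
  · refine card_eq_zero ?_
    rintro W ⟨hW1, hW2⟩
    apply h1
    have h2 := finrank_sup_inf U.1 U'.1
    rw [U.2.2, U'.2.2] at h2
    have h3 := finrank_sup_lt h
    have h4 := finrank_le_of_le (sup_le hW1 hW2)
    rw [W.2.2] at h4
    exact ⟨by omega, (X_orth W).mono hW1 hW2⟩

open Classical in
/-- F2 -/
theorem card_down {hh : ℕ} (hhh : ∀ U : Φ.X (k + 1), Nat.card {U₀ : Φ.X k // U₀.1 ≤ U.1} = hh) (U U' : Φ.X (k + 1)) :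
    Nat.card {U₀ : Φ.X k // U₀.1 ≤ U.1 ∧ U₀.1 ≤ U'.1} =
      if U = U' then hh else if finrank F ↥(U.1 ⊓ U'.1) = k then 1 else 0 := by
  split_ifs with h h1
  · subst h
    rw [← hhh U]
    refine Nat.card_congr (Equiv.subtypeEquivRight fun W => and_self_iff)
  · refine card_eq_one ⟨U.1 ⊓ U'.1, U.2.1.mono inf_le_left, h1⟩ ⟨inf_le_left, inf_le_right⟩ ?_
    rintro W ⟨hW1, hW2⟩
    exact X.eq_of_le (le_inf hW1 hW2)
  · refine card_eq_zero ?_
    rintro W ⟨hW1, hW2⟩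
    apply h1
    have h3 := finrank_inf_lt h
    have h4 := finrank_le_of_le (le_inf hW1 hW2)
    rw [W.2.2] at h4
    omega

theorem exists_hh (Φ : Pol F V) (k : ℕ) : ∃ hh : ℕ, ∀ U : Φ.X (k + 1), Nat.card {U₀ : Φ.X k // U₀.1 ≤ U.1} = hh := by
  have step : ∀ U : Φ.X (k + 1), Nat.card {U₀ : Φ.X k // U₀.1 ≤ U.1} =
      Nat.card {L : Submodule F V // L ≤ U.1 ∧ finrank F L = k} := fun U => Nat.card_congr
    { toFun := fun U₀ => ⟨U₀.1.1, U₀.2, U₀.1.2.2⟩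
      invFun := fun L => ⟨⟨L.1, U.2.1.mono L.2.1, L.2.2⟩, L.2.1⟩
      left_inv := fun _ => rfl
      right_inv := fun _ => rfl }
  by_cases h : Nonempty (Φ.X (k + 1))
  · obtain ⟨U⟩ := h
    refine ⟨Nat.card {L : Submodule F V // L ≤ U.1 ∧ finrank F L = k}, fun U' => ?_⟩
    rw [step U', card_hyper (U' := U.1) (by rw [U.2.2, U'.2.2])]
  · exact ⟨0, fun U => absurd ⟨U⟩ h⟩

/-! ### the trace of `W'` on `U` -/

theorem finrank_inf_ker (W : Submodule F V) (f : V →ₗ[F] F) : finrank F W ≤ finrank F ↥(W ⊓ LinearMap.ker f) + 1 := by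
  have h1 := finrank_sup_inf W (LinearMap.ker f)
  have h2 := LinearMap.finrank_range_add_finrank_ker f
  have h3 : finrank F (LinearMap.range f) ≤ 1 := (Submodule.finrank_le _).trans (finrank_self F).le
  have h4 : finrank F ↥(W ⊔ LinearMap.ker f) ≤ finrank F V := Submodule.finrank_le _
  omega

/-- `T = W' ∩ U^⊥` -/
theorem finrank_tr {U : Φ.X k} {W : Φ.X (k + 1)} (h : finrank F ↥(U.1 ⊓ W.1) + 1 = k) (hno : ¬ Φ.Orth U.1 W.1) :
    finrank F ↥(W.1 ⊓ Φ.perp U.1) = k := by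
  have hne : U.1 ⊓ W.1 < U.1 := by
    refine lt_of_le_of_ne inf_le_left fun h1 => ?_
    rw [h1, U.2.2] at h
    omega
  obtain ⟨u, hu, hu'⟩ := SetLike.exists_of_lt hne
  have hU : U.1 = (U.1 ⊓ W.1) ⊔ Submodule.span F {u} := by
    refine (eq_of_le_finrank (sup_le inf_le_left ((Submodule.span_singleton_le_iff_mem _ _).2 hu)) ?_).symm
    rw [U.2.2]
    have h2 : U.1 ⊓ W.1 < (U.1 ⊓ W.1) ⊔ Submodule.span F {u} := by
      refine lt_of_le_of_ne le_sup_left fun h3 => hu' ?_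
      rw [h3]
      exact Submodule.mem_sup_right (Submodule.mem_span_singleton_self u)
    have h3 := Submodule.finrank_lt_finrank_of_lt h2
    omega
  have hT : W.1 ⊓ LinearMap.ker (Φ.L u) ≤ W.1 ⊓ Φ.perp U.1 := by
    rintro y ⟨hy1, hy2⟩
    refine ⟨hy1, fun x hx => ?_⟩
    have hy3 : Φ.L u y = 0 := hy2
    have hy4 : Φ.L y u = 0 := Φ.refl _ _ hy3
    refine Φ.refl _ _ ?_
    have hx' : x ∈ (U.1 ⊓ W.1) ⊔ Submodule.span F {u} := by rwa [← hU]
    obtain ⟨x₀, hx₀, z, hz, rfl⟩ := Submodule.mem_sup.1 hx'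
    obtain ⟨c, rfl⟩ := Submodule.mem_span_singleton.1 hz
    rw [map_add, map_smul, hy4, smul_zero, add_zero]
    exact (X_orth W) x₀ hx₀.2 y hy1
  have h1 := finrank_inf_ker W.1 (Φ.L u)
  have h2 := finrank_le_of_le hT
  rw [W.2.2] at h1
  have h3 : finrank F ↥(W.1 ⊓ Φ.perp U.1) ≤ finrank F W.1 := finrank_le_of_le inf_le_left
  rw [W.2.2] at h3
  by_contra hcon
  have h4 : finrank F ↥(W.1 ⊓ Φ.perp U.1) = k + 1 := by omega
  have h5 : W.1 ⊓ Φ.perp U.1 = W.1 := eq_of_le_finrank inf_le_left (by rw [W.2.2, h4])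
  apply hno
  refine Orth.symm ?_
  rw [orth_iff_le_perp, ← h5]
  exact inf_le_right

theorem inf_le_tr {U : Φ.X k} {W : Φ.X (k + 1)} : U.1 ⊓ W.1 ≤ W.1 ⊓ Φ.perp U.1 := by
  refine le_inf inf_le_right ?_
  refine inf_le_left.trans ?_
  rw [← orth_iff_le_perp]
  exact (X_orth U)

theorem inf_tr {U : Φ.X k} {W : Φ.X (k + 1)} : U.1 ⊓ (W.1 ⊓ Φ.perp U.1) = U.1 ⊓ W.1 :=
  le_antisymm (inf_le_inf_left _ inf_le_left) (le_inf inf_le_left inf_le_tr)

open Classical in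
/-- F3, `U` not in `W'` -/
theorem card_F3 {U : Φ.X k} {W' : Φ.X (k + 1)} (hUW : ¬ U.1 ≤ W'.1) :
    Nat.card {W : Φ.X (k + 1) // (finrank F ↥(W'.1 ⊓ W.1) + 1 = k + 1 ∧ ¬ Φ.Orth W'.1 W.1) ∧ U.1 ≤ W.1} =
      if finrank F ↥(U.1 ⊓ W'.1) + 1 = k ∧ ¬ Φ.Orth U.1 W'.1 then 1 else 0 := by
  split_ifs with h
  · obtain ⟨h1, h2⟩ := h
    have hT := finrank_tr h1 h2
    set T := W'.1 ⊓ Φ.perp U.1 with hTd
    have hTI : Φ.TI T := W'.2.1.mono inf_le_left
    have horth : Φ.Orth U.1 T := Orth.symm (by rw [orth_iff_le_perp]; exact inf_le_right)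
    have hdim : finrank F ↥(U.1 ⊔ T) = k + 1 := by
      have h3 := finrank_sup_inf U.1 T
      rw [inf_tr, U.2.2, hT] at h3
      omega
    have hWT : ∀ W : Φ.X (k + 1), U.1 ≤ W.1 → finrank F ↥(W'.1 ⊓ W.1) = k → W'.1 ⊓ W.1 = T := by
      intro W hW1 hW2
      refine eq_of_le_finrank (le_inf inf_le_left ?_) (by rw [hT, hW2])
      rw [← orth_iff_le_perp]
      exact (X_orth W).mono inf_le_right hW1
    refine card_eq_one ⟨U.1 ⊔ T, U.2.1.sup hTI horth, hdim⟩ ⟨⟨?_, ?_⟩, le_sup_left⟩ ?_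
    · have h3 : T ≤ W'.1 ⊓ (U.1 ⊔ T) := le_inf inf_le_left le_sup_right
      have h4 := finrank_le_of_le h3
      rw [hT] at h4
      have h5 : finrank F ↥(W'.1 ⊓ (U.1 ⊔ T)) ≤ finrank F W'.1 := finrank_le_of_le inf_le_left
      rw [W'.2.2] at h5
      change finrank F ↥(W'.1 ⊓ (U.1 ⊔ T)) + 1 = k + 1
      by_contra hcon
      have h6 : W'.1 ⊓ (U.1 ⊔ T) = W'.1 := eq_of_le_finrank inf_le_left (by rw [W'.2.2]; omega)
      have h7 : W'.1 = U.1 ⊔ T := eq_of_le_finrank (by rw [← h6]; exact inf_le_right) (by rw [W'.2.2, hdim])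
      exact hUW (by rw [h7]; exact le_sup_left)
    · intro h3
      exact h2 (h3.mono le_rfl le_sup_left).symm
    · rintro W ⟨⟨hW1, _⟩, hW3⟩
      refine (X.eq_of_le ?_).symm
      refine sup_le hW3 ?_
      rw [← hWT W hW3 (by omega)]
      exact inf_le_right
  · refine card_eq_zero ?_
    rintro W ⟨⟨hW1, hW2⟩, hW3⟩
    apply h
    have h3 : ¬ U.1 ≤ W'.1 ⊓ W.1 := fun h3 => hUW (h3.trans inf_le_left)
    have h4 : U.1 ⊓ (W'.1 ⊓ W.1) < U.1 := by
      refine lt_of_le_of_ne inf_le_left fun h5 => h3 ?_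
      rw [← h5]
      exact inf_le_right
    have h5 := Submodule.finrank_lt_finrank_of_lt h4
    rw [U.2.2] at h5
    have h6 := finrank_sup_inf U.1 (W'.1 ⊓ W.1)
    have h7 : finrank F ↥(U.1 ⊔ (W'.1 ⊓ W.1)) ≤ finrank F W.1 := finrank_le_of_le (sup_le hW3 inf_le_right)
    rw [W.2.2] at h7
    rw [U.2.2] at h6
    have h8 : U.1 ⊓ (W'.1 ⊓ W.1) = U.1 ⊓ W'.1 := by
      rw [← inf_assoc]
      exact inf_eq_left.2 (inf_le_left.trans hW3)
    rw [h8] at h6 h5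
    refine ⟨by omega, fun h9 => hW2 ?_⟩
    have h10 : W.1 = U.1 ⊔ (W'.1 ⊓ W.1) :=
      (eq_of_le_finrank (sup_le hW3 inf_le_right) (by rw [W.2.2]; omega)).symm
    rw [h10]
    refine Orth.sup_right h9.symm ((X_orth W').mono le_rfl inf_le_left)

variable [Finite F]

open Classical in
/-- F4 -/
theorem card_F4 (U : Φ.X k) (W' : Φ.X (k + 1)) :
    Nat.card {U' : Φ.X k // U'.1 ≤ W'.1 ∧ (finrank F ↥(U'.1 ⊓ U.1) + 1 = k ∧ ¬ Φ.Orth U'.1 U.1)} =
      if finrank F ↥(U.1 ⊓ W'.1) + 1 = k ∧ ¬ Φ.Orth U.1 W'.1 then Nat.card F else 0 := by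
  split_ifs with h
  · obtain ⟨h1, h2⟩ := h
    have hT := finrank_tr h1 h2
    have hT0 : finrank F ↥(W'.1 ⊓ Φ.perp U.1) = finrank F ↥(U.1 ⊓ W'.1) + 1 := by rw [hT, h1]
    have h3 := card_between (U := U.1 ⊓ W'.1) (Z := W'.1) inf_le_right (by rw [W'.2.2]; omega)
    have hfin : Finite {W : Submodule F V // U.1 ⊓ W'.1 ≤ W ∧ W ≤ W'.1 ∧ finrank F W = finrank F ↥(U.1 ⊓ W'.1) + 1} :=
      Nat.finite_of_card_ne_zero (by rw [h3]; omega)
    have h4 := card_ne (P := fun W : Submodule F V => U.1 ⊓ W'.1 ≤ W ∧ W ≤ W'.1 ∧ finrank F W = finrank F ↥(U.1 ⊓ W'.1) + 1)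
      (W'.1 ⊓ Φ.perp U.1) ⟨inf_le_tr, inf_le_left, hT0⟩
    rw [h3] at h4
    refine Eq.trans ?_ (Nat.succ_injective h4)
    refine Nat.card_congr
      { toFun := fun U' => ⟨U'.1.1, ⟨?_, U'.2.1, ?_⟩, ?_⟩
        invFun := fun L => ⟨⟨L.1, W'.2.1.mono L.2.1.2.1, ?_⟩, L.2.1.2.1, ?_, ?_⟩
        left_inv := fun _ => rfl
        right_inv := fun _ => rfl }
    · have h5 : U'.1.1 ⊓ U.1 ≤ U.1 ⊓ W'.1 := le_inf inf_le_right (inf_le_left.trans U'.2.1)
      have h6 := eq_of_le_finrank h5 (by have := U'.2.2.1; omega)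
      rw [← h6]
      exact inf_le_left
    · rw [U'.1.2.2, h1]
    · intro h5
      apply U'.2.2.2
      rw [h5, orth_iff_le_perp]
      exact inf_le_right
    · rw [L.2.1.2.2, h1]
    · have h5 : U.1 ⊓ W'.1 = L.1 ⊓ U.1 := le_antisymm (le_inf L.2.1.1 inf_le_left)
        (le_inf inf_le_right (inf_le_left.trans L.2.1.2.1))
      change finrank F ↥(L.1 ⊓ U.1) + 1 = k
      rw [← h5, h1]
    · intro h5
      apply L.2.2
      refine eq_of_le_finrank (le_inf L.2.1.2.1 ?_) (by rw [hT0, L.2.1.2.2])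
      rw [← orth_iff_le_perp]
      exact h5
  · refine card_eq_zero ?_
    rintro U' ⟨h1, h2, h3⟩
    apply h
    refine ⟨?_, fun h4 => h3 (h4.mono le_rfl h1).symm⟩
    have h5 : U'.1 ⊓ U.1 ≤ U.1 ⊓ W'.1 := le_inf inf_le_right (inf_le_left.trans h1)
    have h6 := finrank_le_of_le h5
    have h7 : finrank F ↥(U.1 ⊓ W'.1) ≤ finrank F U.1 := finrank_le_of_le inf_le_left
    rw [U.2.2] at h7
    by_contra hcon
    have h8 : U.1 ⊓ W'.1 = U.1 := eq_of_le_finrank inf_le_left (by rw [U.2.2]; omega)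
    have h9 : U.1 ≤ W'.1 := by rw [← h8]; exact inf_le_right
    exact h3 ((X_orth W').mono h1 h9)

/-- F3, `U ≤ W'` -/
theorem card_F3' {cc : ℕ → ℕ} (hcc : Φ.Reg cc) {U : Φ.X k} {W' : Φ.X (k + 1)} (hUW : U.1 ≤ W'.1) :
    Nat.card {W : Φ.X (k + 1) // (finrank F ↥(W'.1 ⊓ W.1) + 1 = k + 1 ∧ ¬ Φ.Orth W'.1 W.1) ∧ U.1 ≤ W.1} +
      (1 + Nat.card F * cc (k + 1)) = cc k := by
  classical
  have hfin : ∀ j, Finite (Φ.X j) := fun j => inferInstance
  -- `W ≥ U` different from `W'` meets `W'` in `U`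
  have hinf : ∀ W : Φ.X (k + 1), U.1 ≤ W.1 → W ≠ W' → finrank F ↥(W'.1 ⊓ W.1) = k := by
    intro W h1 h2
    have h3 := finrank_inf_lt h2.symm
    have h4 := finrank_le_of_le (le_inf hUW h1)
    rw [U.2.2] at h4
    omega
  -- the elements perpendicular to `W'`
  have hperp : Nat.card {W : Φ.X (k + 1) // (U.1 ≤ W.1 ∧ Φ.Orth W'.1 W.1) ∧ W ≠ W'} = Nat.card F * cc (k + 1) := by
    let f : {W : Φ.X (k + 1) // (U.1 ≤ W.1 ∧ Φ.Orth W'.1 W.1) ∧ W ≠ W'} → {Z : Φ.X (k + 1 + 1) // W'.1 ≤ Z.1} :=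
      fun W => ⟨⟨W'.1 ⊔ W.1.1, W'.2.1.sup W.1.2.1 W.2.1.2, by
        have h1 := finrank_sup_inf W'.1 W.1.1
        rw [hinf W.1 W.2.1.1 W.2.2, W'.2.2, W.1.2.2] at h1
        omega⟩, le_sup_left⟩
    have hf : ∀ Z, Nat.card {W // f W = Z} = Nat.card F := by
      intro Z
      have h3 := card_between (U := U.1) (Z := Z.1.1) (hUW.trans Z.2) (by rw [Z.1.2.2, U.2.2])
      have hfin' : Finite {W : Submodule F V // U.1 ≤ W ∧ W ≤ Z.1.1 ∧ finrank F W = finrank F U.1 + 1} :=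
        Nat.finite_of_card_ne_zero (by rw [h3]; omega)
      have h4 := card_ne (P := fun W : Submodule F V => U.1 ≤ W ∧ W ≤ Z.1.1 ∧ finrank F W = finrank F U.1 + 1)
        W'.1 ⟨hUW, Z.2, by rw [W'.2.2, U.2.2]⟩
      rw [h3] at h4
      refine Eq.trans ?_ (Nat.succ_injective h4)
      refine Nat.card_congr
        { toFun := fun W => ⟨W.1.1.1, ⟨W.1.2.1.1, ?_, ?_⟩, ?_⟩
          invFun := fun L => ⟨⟨⟨L.1, Z.1.2.1.mono L.2.1.2.1, ?_⟩, ⟨L.2.1.1, (X_orth Z.1).mono Z.2 L.2.1.2.1⟩, ?_⟩, ?_⟩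
          left_inv := fun _ => rfl
          right_inv := fun _ => rfl }
      · have h5 := congrArg (fun Z : {Z : Φ.X (k + 1 + 1) // W'.1 ≤ Z.1} => Z.1.1) W.2
        change W'.1 ⊔ W.1.1.1 = Z.1.1 at h5
        rw [← h5]
        exact le_sup_right
      · rw [W.1.1.2.2, U.2.2]
      · intro h5
        exact W.1.2.2 (Subtype.ext h5)
      · rw [L.2.1.2.2, U.2.2]
      · intro h5
        exact L.2.2 (congrArg Subtype.val h5)
      · refine Subtype.ext (X.eq_of_le ?_)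
        exact sup_le Z.2 L.2.1.2.1
    have h1 := Nat.card_congr (Equiv.sigmaFiberEquiv f)
    rw [← h1, Nat.card_sigma, Finset.sum_congr rfl fun Z _ => hf Z, Finset.sum_const, Finset.card_univ,
      ← Nat.card_eq_fintype_card, hcc (k + 1) W', smul_eq_mul, mul_comm]
  have h1 : Nat.card {W : Φ.X (k + 1) // U.1 ≤ W.1 ∧ Φ.Orth W'.1 W.1} = Nat.card F * cc (k + 1) + 1 := by
    rw [← hperp, card_ne (P := fun W : Φ.X (k + 1) => U.1 ≤ W.1 ∧ Φ.Orth W'.1 W.1) W' ⟨hUW, (X_orth W')⟩]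
  have h2 : Nat.card {W : Φ.X (k + 1) // U.1 ≤ W.1} =
      Nat.card {W : Φ.X (k + 1) // (finrank F ↥(W'.1 ⊓ W.1) + 1 = k + 1 ∧ ¬ Φ.Orth W'.1 W.1) ∧ U.1 ≤ W.1} +
      Nat.card {W : Φ.X (k + 1) // U.1 ≤ W.1 ∧ Φ.Orth W'.1 W.1} := by
    rw [← Nat.card_sum]
    refine Nat.card_congr
      { toFun := fun W => if h : Φ.Orth W'.1 W.1.1 then Sum.inr ⟨W.1, W.2, h⟩ else Sum.inl ⟨W.1, ⟨?_, h⟩, W.2⟩
        invFun := fun s => s.elim (fun W => ⟨W.1, W.2.2⟩) fun W => ⟨W.1, W.2.1⟩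
        left_inv := ?_
        right_inv := ?_ }
    · rw [hinf W.1 W.2]
      intro h2
      rw [h2] at h
      exact h (X_orth W')
    · intro W
      by_cases h : Φ.Orth W'.1 W.1.1
      · simp [h]
      · simp [h]
    · rintro (W | W)
      · simp [W.2.1.2]
      · simp [W.2.2]
  rw [hcc k U, h1] at h2
  omega

end count

end Cfsg.Agent.H2.Pol
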