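import Cfsg.Agent.H2.Pol.Mat

/-!
# Polar spaces: the eigenvalues of `A'` on the primitive functions are rational (helper2)

* `up` : the iterates of `E = inc`;
* `exists_scalar` : `F E^(r+1) v = (t r - s r * a) E^r v` for primitive eigenvectors `v`, `s r > 0`;
* `rat` : the eigenvalues are rational;
* `prim_adj` : `A'` preserves the primitive functions;
* `prim_sup_range` : `X (k+1) = Prim + im E` (over `ℂ`).
-/

set_option autoImplicit false

namespace Cfsg.Agent.H2.Pol

open Module Pol Matrix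

section rat

variable {F V : Type*} [Field F] [Finite F] [AddCommGroup V] [Module F V] [FiniteDimensional F V] {Φ : Pol F V}
variable {K : Type*} [Field K]

/-- iterates of `inc` -/
noncomputable def up (Φ : Pol F V) {K : Type*} [Field K] {k : ℕ} (v : Φ.X k → K) : ∀ r : ℕ, Φ.X (k + r) → K
  | 0 => v
  | r + 1 => Φ.inc K (k + r) *ᵥ up Φ v r

theorem up_succ {k : ℕ} (v : Φ.X k → K) (r : ℕ) : up Φ v (r + 1) = Φ.inc K (k + r) *ᵥ up Φ v r := rfl

theorem mem_prim_zero (v : Φ.X 0 → K) : v ∈ Φ.Prim K 0 := trivial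

theorem mem_prim_succ {k : ℕ} {v : Φ.X (k + 1) → K} : v ∈ Φ.Prim K (k + 1) ↔ (Φ.inc K k)ᵀ *ᵥ v = 0 := Iff.rfl

theorem UD_prim {k : ℕ} {v : Φ.X k → K} (hv : v ∈ Φ.Prim K k) : UD Φ K k *ᵥ v = 0 := by
  cases k with
  | zero =>
    change (0 : Matrix (Φ.X 0) (Φ.X 0) K) *ᵥ v = 0
    exact zero_mulVec v
  | succ k =>
    rw [mem_prim_succ] at hv
    change (Φ.inc K k * (Φ.inc K k)ᵀ) *ᵥ v = 0
    rw [← mulVec_mulVec, hv, mulVec_zero]

variable [CharZero K]

theorem card_F_ne (F K : Type*) [Field F] [Finite F] [Field K] [CharZero K] : (Nat.card F : K) ≠ 0 := by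
  have : 0 < Nat.card F := Nat.card_pos
  exact_mod_cast this.ne'

theorem adj_up {cc : ℕ → ℕ} (hcc : Φ.Reg cc) {k : ℕ} {w : Φ.X k → K} {a : K} (h : Φ.adj K k *ᵥ w = a • w) :
    Φ.adj K (k + 1) *ᵥ (Φ.inc K k *ᵥ w) =
      (a / Nat.card F + ((cc k : K) - 1 - (Nat.card F : K) * cc (k + 1))) • (Φ.inc K k *ᵥ w) := by
  have hq := card_F_ne F K
  have h1 := congrArg (fun M : Matrix (Φ.X (k + 1)) (Φ.X k) K => M *ᵥ w) (adj_inc hcc K k)
  simp only [smul_mulVec, add_mulVec] at h1
  rw [← mulVec_mulVec, ← mulVec_mulVec, h, mulVec_smul, ← add_smul] at h1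
  have h2 := congrArg (fun x => (Nat.card F : K)⁻¹ • x) h1
  simp only [smul_smul] at h2
  rw [inv_mul_cancel₀ hq, one_smul] at h2
  rw [h2]
  congr 1
  field_simp

theorem exists_scalar {cc : ℕ → ℕ} (hcc : Φ.Reg cc) (K : Type*) [Field K] [CharZero K] (k : ℕ) :
    ∃ s t : ℕ → ℚ, (∀ r, 0 < s r) ∧ ∀ (a : K) (v : Φ.X k → K), v ∈ Φ.Prim K k → Φ.adj K k *ᵥ v = a • v →
      ∀ r, (Φ.inc K (k + r))ᵀ *ᵥ up Φ v (r + 1) = ((t r : K) - (s r : K) * a) • up Φ v r := by
  choose c hc using exists_cst hcc K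
  have hq0 : (0 : ℚ) < Nat.card F := by exact_mod_cast Nat.card_pos
  let x : ℕ → ℚ := fun r => ((Nat.card F : ℚ)⁻¹) ^ r
  let n : ℕ → ℚ := fun j => (cc j : ℚ) - 1 - (Nat.card F : ℚ) * cc (j + 1)
  obtain ⟨y, hy0, hy⟩ : ∃ y : ℕ → ℚ, y 0 = 0 ∧ ∀ r, y (r + 1) = y r / Nat.card F + n (k + r) :=
    ⟨fun r => Nat.rec (motive := fun _ => ℚ) 0 (fun r y => y / Nat.card F + n (k + r)) r, rfl, fun r => rfl⟩
  refine ⟨fun r => ∑ i ∈ Finset.range (r + 1), x i, fun r => ∑ i ∈ Finset.range (r + 1), ((c (k + i) : ℚ) - y i), ?_, ?_⟩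
  · intro r
    refine Finset.sum_pos (fun i _ => ?_) ⟨0, by simp⟩
    exact pow_pos (inv_pos.2 hq0) i
  intro a v hv ha
  have hadj : ∀ r, Φ.adj K (k + r) *ᵥ up Φ v r = ((x r : K) * a + (y r : K)) • up Φ v r := by
    intro r
    induction r with
    | zero =>
      have h0 : up Φ v 0 = v := rfl
      rw [h0]
      change Φ.adj K k *ᵥ v = _
      rw [ha]
      congr 1
      simp [x, hy0]
    | succ r ih =>
      rw [up_succ]
      refine (adj_up hcc ih).trans ?_
      congr 1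
      rw [hy r]
      simp only [x, n]
      have hq := card_F_ne F K
      push_cast
      rw [pow_succ]
      field_simp
      ring
  have hUD : ∀ r, UD Φ K (k + r) *ᵥ up Φ v r = ((∑ i ∈ Finset.range r, ((c (k + i) : K) - ((x i : K) * a + (y i : K)))) : K) •
      up Φ v r ∧ (Φ.inc K (k + r))ᵀ *ᵥ up Φ v (r + 1) =
      ((∑ i ∈ Finset.range (r + 1), ((c (k + i) : K) - ((x i : K) * a + (y i : K)))) : K) • up Φ v r := by
    intro r
    have step : ∀ f : K, UD Φ K (k + r) *ᵥ up Φ v r = f • up Φ v r → (Φ.inc K (k + r))ᵀ *ᵥ up Φ v (r + 1) =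
        (f + ((c (k + r) : K) - ((x r : K) * a + (y r : K)))) • up Φ v r := by
      intro f hf
      rw [up_succ, mulVec_mulVec, hc (k + r), sub_mulVec, add_mulVec, smul_mulVec, one_mulVec, hf, hadj r,
        ← add_smul, ← sub_smul]
      congr 1
      ring
    have main : UD Φ K (k + r) *ᵥ up Φ v r =
        ((∑ i ∈ Finset.range r, ((c (k + i) : K) - ((x i : K) * a + (y i : K)))) : K) • up Φ v r := by
      clear step
      induction r with
      | zero =>
        rw [Finset.range_zero, Finset.sum_empty, zero_smul]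
        exact UD_prim hv
      | succ r ih =>
        have h1 : (Φ.inc K (k + r))ᵀ *ᵥ up Φ v (r + 1) =
            ((∑ i ∈ Finset.range r, ((c (k + i) : K) - ((x i : K) * a + (y i : K)))) +
              ((c (k + r) : K) - ((x r : K) * a + (y r : K)))) • up Φ v r := by
          rw [up_succ, mulVec_mulVec, hc (k + r), sub_mulVec, add_mulVec, smul_mulVec, one_mulVec, ih, hadj r,
            ← add_smul, ← sub_smul]
          congr 1
          ring
        change (Φ.inc K (k + r) * (Φ.inc K (k + r))ᵀ) *ᵥ up Φ v (r + 1) = _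
        rw [← mulVec_mulVec, h1, mulVec_smul, ← up_succ, Finset.sum_range_succ]
    refine ⟨main, ?_⟩
    rw [step _ main, Finset.sum_range_succ]
  intro r
  rw [(hUD r).2]
  congr 1
  push_cast
  rw [Finset.sum_mul, ← Finset.sum_sub_distrib]
  refine Finset.sum_congr rfl fun i _ => ?_
  ring

/-- **the eigenvalues of `A'` on the primitive functions are rational** -/
theorem rat {cc : ℕ → ℕ} (hcc : Φ.Reg cc) {k : ℕ} {a : K} {v : Φ.X k → K} (hv : v ∈ Φ.Prim K k) (hv0 : v ≠ 0)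
    (ha : Φ.adj K k *ᵥ v = a • v) : ∃ r : ℚ, a = r := by
  obtain ⟨s, t, hs, h⟩ := exists_scalar hcc K k
  have hex : ∃ r, up Φ v (r + 1) = 0 := by
    refine ⟨finrank F V, ?_⟩
    have : IsEmpty (Φ.X (k + (finrank F V + 1))) := by
      refine ⟨fun U => ?_⟩
      have h1 := Submodule.finrank_le U.1
      rw [U.2.2] at h1
      omega
    exact Subsingleton.elim _ _
  classical
  have h1 := Nat.find_spec hex
  set r := Nat.find hex with hr
  have h2 : up Φ v r ≠ 0 := by
    rcases Nat.eq_zero_or_pos r with h3 | h3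
    · rw [h3]
      exact hv0
    · obtain ⟨m, hm⟩ := Nat.exists_eq_succ_of_ne_zero h3.ne'
      have h4 : ¬ up Φ v (m + 1) = 0 := Nat.find_min hex (by rw [← hr, hm]; exact Nat.lt_succ_self m)
      rw [hm]
      exact h4
  have h3 := h a v hv ha r
  rw [h1, mulVec_zero] at h3
  rcases smul_eq_zero.1 h3.symm with h4 | h4
  · refine ⟨t r / s r, ?_⟩
    have h5 : (s r : K) ≠ 0 := by
      have := (hs r).ne'
      exact_mod_cast this
    push_cast
    rw [eq_div_iff h5]
    linear_combination -h4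
  · exact absurd h4 h2

/-- `A'` preserves the primitive functions -/
theorem prim_adj {cc : ℕ → ℕ} (hcc : Φ.Reg cc) {k : ℕ} {v : Φ.X k → K} (hv : v ∈ Φ.Prim K k) :
    Φ.adj K k *ᵥ v ∈ Φ.Prim K k := by
  cases k with
  | zero => exact mem_prim_zero _
  | succ k =>
    rw [mem_prim_succ] at hv ⊢
    have h1 := congrArg (fun M : Matrix (Φ.X k) (Φ.X (k + 1)) K => M *ᵥ v) (inc_adj hcc K k)
    simp only [smul_mulVec, add_mulVec] at h1
    rw [← mulVec_mulVec, ← mulVec_mulVec, hv, mulVec_zero, smul_zero, zero_add] at h1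
    exact (smul_eq_zero.1 h1).resolve_left (card_F_ne F K)

end rat

end Cfsg.Agent.H2.Pol
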